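import Mathlib
import Cfsg.Agent.H79Derived

/-!
Monomial groups `(α → G) ⋊ Perm α`: functoriality, wreath products inside them, derived series.
-/

set_option autoImplicit false

namespace CfsgLib.SympSylow

open Equiv

universe u

variable (G : Type*) [Group G] (α : Type*)

/-- The monomial group. -/
abbrev Mon : Type _ := (α → G) ⋊[(mulAutArrow : Perm α →* MulAut (α → G))] Perm α

variable {G α}

theorem mulAutArrow_apply' (σ : Perm α) (f : α → G) (x : α) :
    (mulAutArrow σ : MulAut (α → G)) f x = f (σ⁻¹ x) := rfl

theorem mul_left_apply (a b : Mon G α) (x : α) : (a * b).left x = a.left x * b.left (a.right⁻¹ x) := rfl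

variable {β : Type*}

open Classical in
/-- Extending functions by one along an embedding. -/
noncomputable def extendHom {H : Type*} [Group H] (e : α ↪ β) (f : G →* H) : (α → G) →* (β → H) where
  toFun F y := if h : y ∈ Set.range e then f (F h.choose) else 1
  map_one' := funext fun y => by split <;> simp
  map_mul' F F' := funext fun y => by simp only [Pi.mul_apply]; split <;> simp

open Classical in
theorem extendHom_apply {H : Type*} [Group H] (e : α ↪ β) (f : G →* H) (F : α → G) (x : α) :
    extendHom e f F (e x) = f (F x) := by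
  show dite _ _ _ = _
  rw [dif_pos ⟨x, rfl⟩]
  congr 2
  exact e.injective (Exists.choose_spec (⟨x, rfl⟩ : e x ∈ Set.range e))

open Classical in
theorem extendHom_of_notMem {H : Type*} [Group H] (e : α ↪ β) (f : G →* H) (F : α → G) {y : β}
    (hy : y ∉ Set.range e) : extendHom e f F y = 1 := dif_neg hy

/-- Functoriality of monomial groups. -/
noncomputable def monMap {H : Type*} [Group H] (e : α ↪ β) (f : G →* H) : Mon G α →* Mon H β :=
  SemidirectProduct.map (extendHom e f) (Perm.viaEmbeddingHom e) fun σ => MonoidHom.ext fun F => funext fun y => by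
    show extendHom e f (fun x => F (σ⁻¹ x)) y = extendHom e f F ((Perm.viaEmbeddingHom e σ)⁻¹ y)
    rw [← map_inv]
    by_cases hy : y ∈ Set.range e
    · obtain ⟨x, rfl⟩ := hy
      rw [extendHom_apply, Perm.viaEmbeddingHom_apply, Perm.viaEmbedding_apply, extendHom_apply]
    · rw [extendHom_of_notMem e f _ hy, Perm.viaEmbeddingHom_apply, Perm.viaEmbedding_apply_of_notMem _ _ _ hy,
        extendHom_of_notMem e f _ hy]

theorem monMap_injective {H : Type*} [Group H] (e : α ↪ β) {f : G →* H} (hf : Function.Injective f) :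
    Function.Injective (monMap e f) := by
  intro a b h
  have h1 := congrArg SemidirectProduct.left h
  have h2 := congrArg SemidirectProduct.right h
  rw [monMap, SemidirectProduct.map_left, SemidirectProduct.map_left] at h1
  rw [monMap, SemidirectProduct.map_right, SemidirectProduct.map_right] at h2
  refine SemidirectProduct.ext (funext fun x => hf ?_) (Perm.viaEmbeddingHom_injective e h2)
  have := congrFun h1 (e x)
  rwa [extendHom_apply, extendHom_apply] at this

section Wreath

variable {D Q : Type*} [Group D] [Group Q] (φ : D →* Mon G α)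

/-- The permutation part of the wreath embedding. -/
def wreathPerm (w : D ≀ᵣ Q) : Perm (Q × α) where
  toFun p := (w.right * p.1, (φ (w.left (w.right * p.1))).right p.2)
  invFun p := (w.right⁻¹ * p.1, (φ (w.left p.1)).right⁻¹ p.2)
  left_inv p := by simp
  right_inv p := by simp

theorem wreathPerm_inv_apply (w : D ≀ᵣ Q) (p : Q × α) :
    (wreathPerm φ w)⁻¹ p = (w.right⁻¹ * p.1, (φ (w.left p.1)).right⁻¹ p.2) := rfl

/-- A wreath product inside a monomial group. -/
def wreathMon : D ≀ᵣ Q →* Mon G (Q × α) where
  toFun w := ⟨fun p => (φ (w.left p.1)).left p.2, wreathPerm φ w⟩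
  map_one' := SemidirectProduct.ext (funext fun p => by simp) (Equiv.ext fun p => by simp [wreathPerm])
  map_mul' v w := by
    refine SemidirectProduct.ext (funext fun p => ?_) ?_
    · rw [mul_left_apply, wreathPerm_inv_apply]
      show (φ ((v * w).left p.1)).left p.2 = _
      rw [RegularWreathProduct.mul_def]
      simp only [Pi.mul_apply, map_mul, mul_left_apply]
    · refine inv_injective (Equiv.ext fun p => ?_)
      show (wreathPerm φ (v * w))⁻¹ p = (wreathPerm φ v * wreathPerm φ w)⁻¹ p
      rw [mul_inv_rev, Perm.mul_apply, wreathPerm_inv_apply, wreathPerm_inv_apply, wreathPerm_inv_apply,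
        RegularWreathProduct.mul_def]
      simp only [Pi.mul_apply, map_mul, SemidirectProduct.mul_right, mul_inv_rev, Perm.mul_apply, mul_assoc]

theorem wreathMon_injective [Nonempty α] (hφ : Function.Injective φ) :
    Function.Injective (wreathMon (Q := Q) φ) := by
  intro v w h
  have h1 : ∀ p : Q × α, (φ (v.left p.1)).left p.2 = (φ (w.left p.1)).left p.2 := fun p =>
    congrFun (congrArg SemidirectProduct.left h) p
  have h2 : ∀ p : Q × α, (wreathPerm φ v)⁻¹ p = (wreathPerm φ w)⁻¹ p := fun p =>
    congrArg (fun σ : Mon G (Q × α) => σ.right⁻¹ p) h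
  obtain ⟨x⟩ := ‹Nonempty α›
  refine RegularWreathProduct.ext (funext fun b => hφ ?_) ?_
  · refine SemidirectProduct.ext (funext fun y => h1 (b, y)) (inv_injective (Equiv.ext fun y => ?_))
    exact congrArg Prod.snd (h2 (b, y))
  · have := congrArg Prod.fst (h2 (1, x))
    simpa [wreathPerm_inv_apply] using this

end Wreath

/-- Iterated wreath products over `G` of large derived length. -/
theorem exists_iterated {G : Type u} [Group G] [Finite G] (hG : IsPGroup 2 G) (h1 : derivedSeries G 1 ≠ ⊥) :
    ∀ i : ℕ, ∃ (D : Type u) (_ : Group D) (_ : Finite D) (φ : D →* Mon G (Fin (2 ^ i))),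
      Function.Injective φ ∧ IsPGroup 2 D ∧ derivedSeries D (i + 1) ≠ ⊥ := by
  intro i
  induction i with
  | zero =>
    refine ⟨G, inferInstance, inferInstance,
      SemidirectProduct.inl.comp (MonoidHom.pi fun _ => MonoidHom.id G), fun a b h => ?_, hG, h1⟩
    exact congrFun (SemidirectProduct.inl_injective h) ⟨0, by norm_num⟩
  | succ i ih =>
    obtain ⟨D, _, _, φ, hφ, hD, hne⟩ := ih
    let Q := Multiplicative (ZMod 2)
    let e : Q × Fin (2 ^ i) ↪ Fin (2 ^ (i + 1)) :=
      (Finite.equivFinOfCardEq (α := Q × Fin (2 ^ i)) (by simp [Q, pow_succ, mul_comm])).toEmbedding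
    have : Nonempty (Fin (2 ^ i)) := ⟨⟨0, by positivity⟩⟩
    refine ⟨D ≀ᵣ Q, inferInstance, inferInstance, (monMap e (MonoidHom.id G)).comp (wreathMon φ),
      (monMap_injective e (f := MonoidHom.id G) Function.injective_id).comp (wreathMon_injective φ hφ), ?_,
      H79.derivedSeries_wreath_ne_bot (D := D) (Q := Q) (i + 1) hne⟩
    obtain ⟨d, hd⟩ := IsPGroup.iff_card.1 hD
    refine IsPGroup.of_card (n := 2 * d + 1) ?_
    rw [Nat.card_congr (RegularWreathProduct.equivProd D Q), Nat.card_prod, Nat.card_fun, hd]
    rw [show Nat.card Q = 2 by simp [Q]]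
    ring

variable [Fintype α]

/-- The monomial subgroup cut out by subgroups of `G` and `Perm α`. -/
def monSub (P : Subgroup G) (T : Subgroup (Perm α)) : Subgroup (Mon G α) where
  carrier := {w | (∀ x, w.left x ∈ P) ∧ w.right ∈ T}
  one_mem' := ⟨fun _ => P.one_mem, T.one_mem⟩
  mul_mem' := fun {a b} ha hb => ⟨fun x => by rw [mul_left_apply]; exact P.mul_mem (ha.1 x) (hb.1 _),
    T.mul_mem ha.2 hb.2⟩
  inv_mem' := fun {a} ha => ⟨fun x => P.inv_mem (ha.1 _), T.inv_mem ha.2⟩

theorem card_monSub (P : Subgroup G) (T : Subgroup (Perm α)) :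
    Nat.card (monSub P T) = Nat.card P ^ Fintype.card α * Nat.card T := by
  rw [Nat.card_congr
    { toFun := fun w : monSub P T => ((fun x => (⟨w.1.left x, w.2.1 x⟩ : P)), (⟨w.1.right, w.2.2⟩ : T))
      invFun := fun p => ⟨⟨fun x => p.1 x, p.2⟩, fun x => (p.1 x).2, p.2.2⟩
      left_inv := fun w => rfl
      right_inv := fun p => rfl }, Nat.card_prod, Nat.card_fun, Nat.card_eq_fintype_card (α := α)]

/-- Derived length of monomial groups. -/
theorem derivedSeries_monSub [Finite G] [DecidableEq α] (P : Subgroup G) (T : Subgroup (Perm α))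
    (hP : derivedSeries P 2 = ⊥) (j : ℕ) (hT : derivedSeries T j = ⊥) :
    derivedSeries (monSub P T) (j + 2) = ⊥ := by
  let r : monSub P T →* T :=
    { toFun := fun w => ⟨w.1.right, w.2.2⟩, map_one' := rfl, map_mul' := fun _ _ => rfl }
  have hK : derivedSeries (monSub P T) j ≤ r.ker := by
    rw [← Subgroup.map_eq_bot_iff]
    exact le_bot_iff.1 ((map_derivedSeries_le_derivedSeries r j).trans hT.le)
  have hK2 : derivedSeries r.ker 2 = ⊥ := by
    refine (Subgroup.eq_bot_iff_forall _).2 fun w hw => ?_
    have hleft : ∀ x, ((w : monSub P T) : Mon G α).left x = 1 := fun x => by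
      let ev : r.ker →* P :=
        { toFun := fun v => ⟨((v : monSub P T) : Mon G α).left x, (v : monSub P T).2.1 x⟩
          map_one' := rfl
          map_mul' := fun v v' => Subtype.ext (by
            have hv : ((v : monSub P T) : Mon G α).right = 1 := congrArg Subtype.val (MonoidHom.mem_ker.1 v.2)
            simp [mul_left_apply, hv]) }
      have := map_derivedSeries_le_derivedSeries ev 2 (Subgroup.mem_map_of_mem ev hw)
      rw [hP, Subgroup.mem_bot] at this
      exact congrArg Subtype.val this
    exact Subtype.ext (Subtype.ext (SemidirectProduct.ext (funext hleft)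
      (congrArg Subtype.val (MonoidHom.mem_ker.1 w.2))))
  have step : ∀ m, derivedSeries (monSub P T) (j + m) ≤ (derivedSeries r.ker m).map r.ker.subtype := by
    intro m
    induction m with
    | zero => rw [Nat.add_zero, derivedSeries_zero, ← MonoidHom.range_eq_map, Subgroup.range_subtype]; exact hK
    | succ m ih =>
      rw [← Nat.add_assoc, derivedSeries_succ, derivedSeries_succ r.ker, Subgroup.map_commutator]
      exact Subgroup.commutator_mono ih ih
  have := step 2
  rwa [hK2, Subgroup.map_bot, le_bot_iff] at this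

/-- Two-subgroups of `Perm α`. -/
theorem derivedSeries_perm [DecidableEq α] (T : Subgroup (Perm α)) (hT : IsPGroup 2 T) (j : ℕ)
    (hj : Fintype.card α < 2 ^ (j + 1)) : derivedSeries T j = ⊥ := by
  have : Fact (Nat.Prime 2) := ⟨Nat.prime_two⟩
  refine (Subgroup.eq_bot_iff_forall _).2 fun σ hσ => Subtype.ext (Equiv.ext fun x => ?_)
  have hx : σ ∈ MulAction.stabilizer T x := H79.derivedSeries_le_of_index_lt j hT _ (by
    rw [MulAction.index_stabilizer]
    exact lt_of_le_of_lt ((Set.ncard_le_ncard (Set.subset_univ _)).trans_eq (Set.ncard_univ α))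
      (by rwa [Nat.card_eq_fintype_card])) hσ
  exact MulAction.mem_stabilizer_iff.1 hx

end CfsgLib.SympSylow
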