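import Cfsg.Agent.Lib.SympSylow.Monomial
import Cfsg.Agent.Lib.TwoGroups.OneInvolution
import Cfsg.Agent.Lib.SL2Tori.Basic
import Cfsg.Agent.Lib.SpecLin.SLTwoClassSize
import Cfsg.Agent.Lib.Sp.Card

/-!
The derived length of a Sylow 2-subgroup of a symplectic group in odd characteristic.
-/

set_option autoImplicit false

namespace CfsgLib.SympSylow

open scoped commutatorElement

open Equiv Matrix

universe u

variable {F : Type u} [Field F] {α : Type*} [Fintype α] [DecidableEq α]

/-- A monomial matrix. -/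
def blk (c : α → F) (σ : Perm α) : Matrix α α F := Matrix.of fun x y => if σ⁻¹ x = y then c x else 0

theorem blk_mul_blk (c d : α → F) (σ τ : Perm α) :
    blk c σ * blk d τ = blk (fun x => c x * d (σ⁻¹ x)) (σ * τ) := by
  ext x y
  rw [Matrix.mul_apply, Finset.sum_eq_single (σ⁻¹ x)]
  · simp only [blk, Matrix.of_apply, if_true, _root_.mul_inv_rev, Perm.mul_apply, mul_ite, mul_zero]
  · intro z _ hz
    show (if σ⁻¹ x = z then c x else 0) * _ = 0
    rw [if_neg (Ne.symm hz), zero_mul]
  · simp

theorem blk_add (c d : α → F) (σ : Perm α) : blk c σ + blk d σ = blk (fun x => c x + d x) σ := by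
  ext x y
  simp only [blk, Matrix.add_apply, Matrix.of_apply]
  split_ifs <;> simp

theorem blk_one (c : α → F) : blk c 1 = Matrix.diagonal c := by
  ext x y
  by_cases h : x = y <;> simp [blk, h]

theorem blk_mul_transpose (c d : α → F) (σ : Perm α) :
    blk c σ * (blk d σ)ᵀ = Matrix.diagonal fun x => c x * d x := by
  ext x y
  rw [Matrix.mul_apply, Finset.sum_eq_single (σ⁻¹ x)]
  · show (if σ⁻¹ x = σ⁻¹ x then c x else 0) * (if σ⁻¹ y = σ⁻¹ x then d y else 0) = _
    rw [if_pos rfl, Matrix.diagonal_apply]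
    by_cases h : x = y
    · rw [if_pos h, if_pos (by rw [h]), h]
    · rw [if_neg h, if_neg fun e => h (σ⁻¹.injective e).symm, mul_zero]
  · intro z _ hz
    show (if σ⁻¹ x = z then c x else 0) * _ = 0
    rw [if_neg (Ne.symm hz), zero_mul]
  · simp

/-- Monomial matrices of blocks of size two. -/
def monMat (w : Mon (SpecialLinearGroup (Fin 2) F) α) : Matrix (α ⊕ α) (α ⊕ α) F :=
  Matrix.fromBlocks (blk (fun x => (w.left x).1 0 0) w.right) (blk (fun x => (w.left x).1 0 1) w.right)
    (blk (fun x => (w.left x).1 1 0) w.right) (blk (fun x => (w.left x).1 1 1) w.right)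

theorem monMat_mem (w : Mon (SpecialLinearGroup (Fin 2) F) α) :
    monMat w ∈ Matrix.symplecticGroup α F := by
  rw [SymplecticGroup.mem_iff, monMat, Matrix.J, Matrix.fromBlocks_transpose, Matrix.fromBlocks_multiply,
    Matrix.fromBlocks_multiply]
  simp only [Matrix.mul_zero, Matrix.mul_one, Matrix.mul_neg, zero_add, add_zero, Matrix.neg_mul,
    blk_mul_transpose]
  have hd : ∀ x, (w.left x).1 0 0 * (w.left x).1 1 1 - (w.left x).1 0 1 * (w.left x).1 1 0 = 1 := fun x => by
    have := (w.left x).2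
    rwa [Matrix.det_fin_two] at this
  congr 1 <;> ext i j <;> by_cases h : i = j <;>
    simp only [Matrix.add_apply, Matrix.neg_apply, Matrix.diagonal_apply, Matrix.one_apply, Matrix.zero_apply,
      h, if_true, if_false] <;> first | ring1 | linear_combination hd j | linear_combination -hd j

/-- The embedding of the monomial group. -/
def monSp : Mon (SpecialLinearGroup (Fin 2) F) α →* Matrix.symplecticGroup α F where
  toFun w := ⟨monMat w, monMat_mem w⟩
  map_one' := Subtype.ext (by
    show monMat 1 = 1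
    rw [monMat, ← Matrix.fromBlocks_one]
    simp only [SemidirectProduct.one_right, SemidirectProduct.one_left, Pi.one_apply, blk_one]
    congr 1 <;> ext i j <;> by_cases h : i = j <;> simp [h])
  map_mul' a b := Subtype.ext (by
    show monMat (a * b) = monMat a * monMat b
    simp only [monMat, Matrix.fromBlocks_multiply, blk_mul_blk, blk_add, SemidirectProduct.mul_right]
    congr 2 <;> funext x <;>
      simp [mul_left_apply, Matrix.mul_apply, Fin.sum_univ_two])

theorem monSp_injective : Function.Injective (monSp (F := F) (α := α)) := by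
  refine (injective_iff_map_eq_one _).2 fun w hw => ?_
  have h : monMat w = Matrix.fromBlocks 1 0 0 1 := by
    rw [Matrix.fromBlocks_one]; exact congrArg Subtype.val hw
  obtain ⟨h00, h01, h10, h11⟩ := Matrix.fromBlocks_inj.1 h
  have hσ : w.right = 1 := by
    refine inv_injective (Equiv.ext fun x => ?_)
    rw [inv_one, Perm.one_apply]
    by_contra hx
    have e00 := congrFun (congrFun h00 x) (w.right⁻¹ x)
    have e01 := congrFun (congrFun h01 x) (w.right⁻¹ x)
    rw [Matrix.one_apply_ne (Ne.symm hx)] at e00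
    simp [blk] at e00 e01
    have := (w.left x).2
    rw [Matrix.det_fin_two, e00, e01] at this
    simp at this
  refine SemidirectProduct.ext (funext fun x => Subtype.ext ?_) hσ
  have f00 := congrFun (congrFun h00 x) x
  have f01 := congrFun (congrFun h01 x) x
  have f10 := congrFun (congrFun h10 x) x
  have f11 := congrFun (congrFun h11 x) x
  simp [blk, hσ] at f00 f01 f10 f11
  ext i j
  fin_cases i <;> fin_cases j <;> simp [f00, f01, f10, f11]

theorem derivedSeries_two_of_index {P : Type*} [Group P] [Finite P] (hP : IsPGroup 2 P) (H : Subgroup P)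
    (hH : ∀ a ∈ H, ∀ b ∈ H, a * b = b * a) (hi : H.index < 4) : derivedSeries P 2 = ⊥ := by
  have : Fact (Nat.Prime 2) := ⟨Nat.prime_two⟩
  have h1 : derivedSeries P 1 ≤ H := H79.derivedSeries_le_of_index_lt 1 hP H (by simpa using hi)
  rw [derivedSeries_succ, ← le_bot_iff]
  refine (Subgroup.commutator_mono h1 h1).trans (le_of_eq ?_)
  rw [Subgroup.commutator_eq_bot_iff_le_centralizer]
  exact fun a ha => Subgroup.mem_centralizer_iff.2 fun b hb => hH b hb a ha

variable [Fintype F]

theorem two_ne_zero_of_odd (hq : Odd (Fintype.card F)) : (2 : F) ≠ 0 := by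
  refine Ring.two_ne_zero fun h => ?_
  have := FiniteField.even_card_of_char_two h
  rw [Nat.odd_iff] at hq
  omega

theorem derivedSeries_sl_two (hq : Odd (Fintype.card F)) (P : Subgroup (SpecialLinearGroup (Fin 2) F))
    (hP : IsPGroup 2 P) : derivedSeries P 2 = ⊥ := by
  have h2 := two_ne_zero_of_odd hq
  have huniq : ∀ a b : P, orderOf a = 2 → orderOf b = 2 → a = b := by
    have key : ∀ a : P, orderOf a = 2 → ((a : SpecialLinearGroup (Fin 2) F) : Matrix (Fin 2) (Fin 2) F) = -1 := by
      intro a ha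
      have hpow : (a : SpecialLinearGroup (Fin 2) F) ^ 2 = 1 := by
        have := pow_orderOf_eq_one a
        rw [ha] at this
        exact congrArg Subtype.val this
      rcases SL2Tori.sq_eq_one_cases h2 hpow with h | h
      · have : a = 1 := Subtype.ext (Subtype.ext (by simpa using h))
        rw [this, orderOf_one] at ha
        omega
      · exact h
    exact fun a b ha hb => Subtype.ext (Subtype.ext ((key a ha).trans (key b hb).symm))
  rcases TwoGroups.OneInvolution.isCyclic_or_quaternion hP huniq with hc | ⟨m, hm, ⟨e⟩⟩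
  · exact derivedSeries_two_of_index hP ⊤ (fun a _ b _ => (IsCyclic.commGroup (α := P)).mul_comm a b)
      (by simp)
  · refine derivedSeries_two_of_index hP ((Subgroup.zpowers (QuaternionGroup.a 1)).map e.symm.toMonoidHom) ?_ ?_
    · rintro _ ⟨a, ⟨i, rfl⟩, rfl⟩ _ ⟨b, ⟨j, rfl⟩, rfl⟩
      rw [← map_mul, ← map_mul]
      congr 1
      exact (Commute.zpow_zpow (Commute.refl _) i j).eq
    · refine lt_of_eq_of_lt (Subgroup.index_map_equiv (Subgroup.zpowers (QuaternionGroup.a 1)) e.symm) ?_
      have := (Subgroup.zpowers (QuaternionGroup.a (1 : ZMod (2 * 2 ^ m)))).card_mul_index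
      rw [Nat.card_zpowers, QuaternionGroup.orderOf_a_one, Nat.card_eq_fintype_card, QuaternionGroup.card] at this
      have : 0 < 2 ^ m := by positivity
      nlinarith

theorem exists_nonabelian_sylow (hq : Odd (Fintype.card F)) :
    ∃ Q : Sylow 2 (SpecialLinearGroup (Fin 2) F), derivedSeries (Q : Subgroup (SpecialLinearGroup (Fin 2) F)) 1 ≠ ⊥ := by
  classical
  have : Fact (Nat.Prime 2) := ⟨Nat.prime_two⟩
  have h2 := two_ne_zero_of_odd hq
  obtain ⟨p, hp⟩ := CharP.exists F
  have hpp : p.Prime := CharP.char_is_prime F p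
  have : NeZero p := ⟨hpp.ne_zero⟩
  obtain ⟨a, b, hab⟩ := CharP.sq_add_sq F p (-1)
  push_cast at hab
  let i : SpecialLinearGroup (Fin 2) F := ⟨!![0, 1; -1, 0], by simp [Matrix.det_fin_two]⟩
  let j : SpecialLinearGroup (Fin 2) F := ⟨!![(a : F), (b : F); (b : F), -(a : F)], by
    rw [Matrix.det_fin_two_of]; linear_combination -hab⟩
  have hneg : (-1 : F) ≠ 1 := fun e => h2 (by linear_combination -e)
  have e1 : (a : F) * a + b * b = -1 := by linear_combination hab
  have hi2 : (i : Matrix (Fin 2) (Fin 2) F) * i = -1 := by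
    show !![(0 : F), 1; -1, 0] * !![(0 : F), 1; -1, 0] = -1
    rw [Matrix.mul_fin_two, Matrix.one_fin_two]
    ext r s
    fin_cases r <;> fin_cases s <;> simp
  have hj2 : (j : Matrix (Fin 2) (Fin 2) F) * j = -1 := by
    show !![(a : F), (b : F); (b : F), -(a : F)] * !![(a : F), (b : F); (b : F), -(a : F)] = -1
    rw [Matrix.mul_fin_two, Matrix.one_fin_two]
    ext r s
    fin_cases r <;> fin_cases s <;> simp <;> first | ring1 | linear_combination e1 | linear_combination -e1
  have h4 : ∀ g : SpecialLinearGroup (Fin 2) F, (g : Matrix (Fin 2) (Fin 2) F) * g = -1 → g ^ 2 ^ 2 = 1 := by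
    intro g hg
    rw [show (2 : ℕ) ^ 2 = 2 * 2 from rfl, pow_mul, pow_two, pow_two]
    refine Subtype.ext ?_
    show ((g : Matrix (Fin 2) (Fin 2) F) * g) * ((g : Matrix (Fin 2) (Fin 2) F) * g) = 1
    rw [hg, neg_mul_neg, one_mul]
  have hji : j * i * j⁻¹ = i⁻¹ := by
    rw [mul_inv_eq_iff_eq_mul, eq_inv_mul_iff_mul_eq]
    refine Subtype.ext ?_
    show !![(0 : F), 1; -1, 0] * (!![(a : F), (b : F); (b : F), -(a : F)] * !![(0 : F), 1; -1, 0]) =
      !![(a : F), (b : F); (b : F), -(a : F)]
    rw [Matrix.mul_fin_two, Matrix.mul_fin_two]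
    ext r s
    fin_cases r <;> fin_cases s <;> simp
  have hI : IsPGroup 2 (Subgroup.zpowers i) := IsPGroup.iff_orderOf.2 fun x => by
    obtain ⟨k, -, hk⟩ := (Nat.dvd_prime_pow Nat.prime_two).1
      ((orderOf_dvd_natCard x).trans (Nat.card_zpowers i ▸ orderOf_dvd_of_pow_eq_one (h4 i hi2)))
    exact ⟨k, hk⟩
  have hJ : IsPGroup 2 (Subgroup.zpowers j) := IsPGroup.iff_orderOf.2 fun x => by
    obtain ⟨k, -, hk⟩ := (Nat.dvd_prime_pow Nat.prime_two).1
      ((orderOf_dvd_natCard x).trans (Nat.card_zpowers j ▸ orderOf_dvd_of_pow_eq_one (h4 j hj2)))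
    exact ⟨k, hk⟩
  have hnorm : Subgroup.zpowers j ≤ Subgroup.normalizer (Subgroup.zpowers i : Set (SpecialLinearGroup (Fin 2) F)) := by
    rw [Subgroup.zpowers_le, Subgroup.mem_normalizer_iff]
    intro x
    constructor
    · rintro ⟨k, rfl⟩
      exact ⟨-k, by show i ^ (-k) = j * i ^ k * j⁻¹; rw [← conj_zpow, hji, _root_.inv_zpow']⟩
    · rintro ⟨k, hk⟩
      refine ⟨-k, ?_⟩
      show i ^ (-k) = x
      have hji' : j⁻¹ * i * j = i⁻¹ := by
        have := congrArg (fun g => (j⁻¹ * g * j)⁻¹) hji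
        simpa [mul_assoc] using this.symm
      have : x = (j⁻¹ * i * j⁻¹⁻¹) ^ k := by rw [conj_zpow]; simp only [inv_inv]; rw [show i ^ k = j * x * j⁻¹ from hk]; group
      rw [this, inv_inv, hji', _root_.inv_zpow']
  obtain ⟨Q, hQ⟩ := (hJ.to_sup_of_normal_right' hI hnorm).exists_le_sylow
  refine ⟨Q, fun h => ?_⟩
  have hiQ : i ∈ (Q : Subgroup (SpecialLinearGroup (Fin 2) F)) := hQ (Subgroup.mem_sup_right (Subgroup.mem_zpowers i))
  have hjQ : j ∈ (Q : Subgroup (SpecialLinearGroup (Fin 2) F)) := hQ (Subgroup.mem_sup_left (Subgroup.mem_zpowers j))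
  have hc : ⁅(⟨i, hiQ⟩ : (Q : Subgroup (SpecialLinearGroup (Fin 2) F))), (⟨j, hjQ⟩ : (Q : Subgroup (SpecialLinearGroup (Fin 2) F)))⁆ ∈ derivedSeries (Q : Subgroup (SpecialLinearGroup (Fin 2) F)) 1 :=
    Subgroup.commutator_mem_commutator (Subgroup.mem_top _) (Subgroup.mem_top _)
  rw [h, Subgroup.mem_bot, commutatorElement_eq_one_iff_mul_comm] at hc
  have e : j * i * j⁻¹ = i := by
    rw [mul_inv_eq_iff_eq_mul]; exact (congrArg Subtype.val hc).symm
  rw [hji, inv_eq_iff_mul_eq_one] at e
  have e00 := congrArg (fun M : SpecialLinearGroup (Fin 2) F => M.1 0 0) e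
  change ((i : Matrix (Fin 2) (Fin 2) F) * i) 0 0 = (1 : Matrix (Fin 2) (Fin 2) F) 0 0 at e00
  rw [hi2] at e00
  simp only [Matrix.neg_apply, Matrix.one_apply_eq] at e00
  exact hneg e00

theorem padic_prod {q : ℕ} (hq : Odd q) (hq1 : 1 < q) : ∀ n : ℕ,
    padicValNat 2 (∏ i ∈ Finset.range n, (q ^ (2 * (i + 1)) - 1)) =
      n * padicValNat 2 (q ^ 2 - 1) + padicValNat 2 n.factorial ∧
      ∏ i ∈ Finset.range n, (q ^ (2 * (i + 1)) - 1) ≠ 0 := by
  have : Fact (Nat.Prime 2) := ⟨Nat.prime_two⟩
  have hd : 2 ∣ q - 1 := by obtain ⟨k, rfl⟩ := hq; omega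
  have hnd : ¬ 2 ∣ q := by obtain ⟨k, rfl⟩ := hq; omega
  have key : ∀ i, i ≠ 0 → padicValNat 2 (q ^ (2 * i) - 1) = padicValNat 2 (q ^ 2 - 1) + padicValNat 2 i := by
    intro i hi
    have h1 := padicValNat.pow_two_sub_pow (y := 1) hq1 hd hnd (n := 2 * i) (by omega) ⟨i, two_mul i⟩
    have h2 := padicValNat.pow_two_sub_pow (y := 1) hq1 hd hnd (n := 2) (by omega) ⟨1, rfl⟩
    rw [one_pow] at h1 h2
    rw [padicValNat.mul (by omega) hi] at h1
    omega
  intro n
  induction n with
  | zero => simp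
  | succ n ih =>
    obtain ⟨h1, h2⟩ := ih
    have hne : q ^ (2 * (n + 1)) - 1 ≠ 0 := by
      have : q ^ 1 < q ^ (2 * (n + 1)) ∨ q ^ 1 ≤ q ^ (2 * (n + 1)) := Or.inr (Nat.pow_le_pow_right (by omega) (by omega))
      rcases this with h | h <;> · rw [pow_one] at h; omega
    refine ⟨?_, by rw [Finset.prod_range_succ]; exact mul_ne_zero h2 hne⟩
    rw [Finset.prod_range_succ, padicValNat.mul h2 hne, h1, key _ (by omega), Nat.factorial_succ,
      padicValNat.mul (by omega) (Nat.factorial_ne_zero n)]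
    ring

/-- The derived length of a Sylow 2-subgroup of `Sp(2n, q)`, `q` odd. -/
theorem derivedSeries_sylow (hq : Odd (Fintype.card F)) (n : ℕ) (hn : 1 ≤ n)
    (R : Sylow 2 (Matrix.symplecticGroup (Fin n) F)) :
    derivedSeries (R : Subgroup (Matrix.symplecticGroup (Fin n) F)) (Nat.log 2 (2 * n) + 1) = ⊥ ∧
      derivedSeries (R : Subgroup (Matrix.symplecticGroup (Fin n) F)) (Nat.log 2 (2 * n)) ≠ ⊥ := by
  classical
  have : Fact (Nat.Prime 2) := ⟨Nat.prime_two⟩
  set j := Nat.log 2 n with hj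
  have hlog : Nat.log 2 (2 * n) = j + 1 := by
    rw [mul_comm, Nat.log_mul_base (by norm_num) (by omega)]
  rw [hlog]
  obtain ⟨Q, hQ⟩ := exists_nonabelian_sylow hq
  constructor
  · obtain ⟨T⟩ : Nonempty (Sylow 2 (Perm (Fin n))) := inferInstance
    let W := monSub (α := Fin n) (Q : Subgroup (SpecialLinearGroup (Fin 2) F)) (T : Subgroup (Perm (Fin n)))
    have hdW : derivedSeries W (j + 2) = ⊥ := derivedSeries_monSub _ _
      (derivedSeries_sl_two hq _ Q.isPGroup') j (derivedSeries_perm _ T.isPGroup' j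
        (by rw [Fintype.card_fin]; exact Nat.lt_pow_succ_log_self (by norm_num) n))
    set W' := W.map (monSp (F := F) (α := Fin n))
    have hq1 : 1 < Fintype.card F := Fintype.one_lt_card
    have hcard : Nat.card W' = 2 ^ (Nat.card (Matrix.symplecticGroup (Fin n) F)).factorization 2 := by
      rw [Nat.card_congr (Subgroup.equivMapOfInjective W monSp monSp_injective).toEquiv.symm, card_monSub,
        Q.card_eq_multiplicity, T.card_eq_multiplicity, Fintype.card_fin, ← pow_mul, ← pow_add,
        CfsgLib.SpecLin.SLTwo.card_sl_two, Sp.card_symplecticGroup rfl, Nat.card_perm, Nat.card_fin]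
      congr 1
      obtain ⟨hp, hp0⟩ := padic_prod hq hq1 n
      have h2q : padicValNat 2 (Fintype.card F) = 0 :=
        padicValNat.eq_zero_of_not_dvd (by obtain ⟨k, hk⟩ := hq; omega)
      have hsq : Fintype.card F ^ 2 - 1 ≠ 0 := by
        have := Nat.pow_le_pow_left (show 2 ≤ Fintype.card F by omega) 2
        omega
      rw [Nat.factorization_def _ Nat.prime_two, Nat.factorization_def _ Nat.prime_two,
        Nat.factorization_def _ Nat.prime_two, padicValNat.mul (by omega) hsq, h2q, zero_add,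
        padicValNat.mul (pow_ne_zero _ (by omega)) hp0, padicValNat.pow, h2q, mul_zero, zero_add, hp,
        mul_comm]
    let R' : Sylow 2 (Matrix.symplecticGroup (Fin n) F) := Sylow.ofCard W' hcard
    let e : W ≃* (R : Subgroup (Matrix.symplecticGroup (Fin n) F)) :=
      (Subgroup.equivMapOfInjective W monSp monSp_injective).trans (R'.equiv R)
    rw [← map_derivedSeries_eq e.surjective (f := e.toMonoidHom) (j + 2), hdW, Subgroup.map_bot]
  · obtain ⟨D, _, _, φ, hφ, hD, hne⟩ := exists_iterated (G := (Q : Subgroup (SpecialLinearGroup (Fin 2) F)))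
      Q.isPGroup' hQ j
    let ι : D →* Matrix.symplecticGroup (Fin n) F := monSp.comp ((monMap
      (Fin.castLEEmb (Nat.pow_log_le_self 2 (by omega) : 2 ^ j ≤ n))
      (Q : Subgroup (SpecialLinearGroup (Fin 2) F)).subtype).comp φ)
    have hι : Function.Injective ι :=
      monSp_injective.comp ((monMap_injective _ (Subgroup.subtype_injective _)).comp hφ)
    obtain ⟨R', hR'⟩ := (hD.of_equiv (MonoidHom.ofInjective hι)).exists_le_sylow
    exact H79.derivedSeries_ne_bot_of_injective
      (((R'.equiv R).toMonoidHom.comp (Subgroup.inclusion hR')).comp (MonoidHom.ofInjective hι).toMonoidHom)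
      (((R'.equiv R).injective.comp (Subgroup.inclusion_injective hR')).comp (MonoidHom.ofInjective hι).injective)
      (j + 1) hne

end CfsgLib.SympSylow
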